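import Groth.Agent.L02.RigidDesc.FlatQs
import Groth.Agent.L02.RigidDesc.Rigid
import Groth.Agent.L18.AmpleDescent
import Groth.Agent.L18.RelTilde.Frames
import Mathlib.RingTheory.KrullDimension.Zero
import Mathlib.RingTheory.Flat.Localization
import Mathlib.RingTheory.Spectrum.Prime.Topology

/-!
Invertible modules trivial on all fibres over the spectrum of an absolutely flat ring come from the base.
-/

set_option autoImplicit false
set_option linter.style.haveILetI false
set_option linter.unusedSectionVars false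
set_option backward.isDefEq.respectTransparency.types false
set_option backward.isDefEq.respectTransparency false

universe u

open CategoryTheory CategoryTheory.Limits AlgebraicGeometry TopologicalSpace Opposite
open Groth.L18.Frame (rs ro rs_rs rs_self rs_smul IsFrame exists_frame pull pull_smul pull_rs isUnit_of_isFrame)

noncomputable section

namespace Groth.L02.RigidDesc

section Ring

variable (B : Type u) [CommRing B] [IsReduced B] [Ring.KrullDimLE 0 B]

/-- Over a reduced ring of dimension zero all modules are flat. -/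
theorem flat_of_isReduced_dimZero (M : Type u) [AddCommGroup M] [Module B M] : Module.Flat B M := by
  refine Module.flat_of_isLocalized_maximal B M (fun P _ => LocalizedModule P.primeCompl M)
    (fun P _ => LocalizedModule.mkLinearMap P.primeCompl M) fun P _ => ?_
  haveI : Ring.KrullDimLE 0 (Localization.AtPrime P) := Ring.KrullDimLE.of_isLocalization P
    (by rw [Ring.KrullDimLE.minimalPrimes_eq_setOfPred_isPrime]; exact ‹P.IsMaximal›.isPrime) _
  haveI : IsReduced (Localization.AtPrime P) := inferInstance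
  letI := (Ring.KrullDimLE.isField_of_isReduced (R := Localization.AtPrime P)).toField
  exact Module.Flat.trans B (Localization.AtPrime P) _

/-- The prime spectrum of a ring of dimension zero is Hausdorff. -/
theorem t2Space_of_dimZero : T2Space (PrimeSpectrum B) := by
  refine ⟨fun p q hpq => ?_⟩
  obtain ⟨x, hxp, hxq⟩ : ∃ x, x ∈ p.asIdeal ∧ x ∉ q.asIdeal := by
    by_contra! h
    haveI := p.isPrime.isMaximal'
    exact hpq (PrimeSpectrum.ext ((‹p.asIdeal.IsMaximal›).eq_of_le q.isPrime.ne_top h))
  have hcl : IsClosed (PrimeSpectrum.basicOpen x : Set (PrimeSpectrum B)) := by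
    rw [← PrimeSpectrum.localization_away_comap_range (Localization.Away x) x]
    refine PrimeSpectrum.isClosed_range_of_stableUnderSpecialization _ fun a b hab ha => ?_
    haveI := a.isPrime.isMaximal'
    rwa [← PrimeSpectrum.ext ((‹a.asIdeal.IsMaximal›).eq_of_le b.isPrime.ne_top
      ((PrimeSpectrum.le_iff_specializes a b).2 hab))]
  exact ⟨_, _, hcl.isOpen_compl, (PrimeSpectrum.basicOpen x).2, fun h => (PrimeSpectrum.mem_basicOpen x p).1 h hxp,
    (PrimeSpectrum.mem_basicOpen x q).2 hxq, disjoint_compl_left⟩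

end Ring

variable {Y T : Scheme.{u}} (p : Y ⟶ T)

/-- Trivial on the fibres, over a Hausdorff affine base: comes from the base. -/
theorem exists_of_fibres [IsAffine T] [T2Space T] [QuasiCompact p] [QuasiSeparated p]
    (hp : ∀ U : T.Opens, Function.Bijective (p.app U)) (δ : Y.Modules) (hδ : PicF.IsInvertible δ)
    (hloc : ∀ t : T, ∃ (K : Type u) (_ : Field K) (φ : Spec (CommRingCat.of K) ⟶ T), Flat φ ∧ t ∈ Set.range φ ∧
      Nonempty ((Scheme.Modules.pullback (pullback.fst p φ)).obj δ ≅ Coh.structureModule _)) :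
    ∃ N : T.Modules, PicF.IsInvertible N ∧ Nonempty (δ ≅ (Scheme.Modules.pullback p).obj N) := by
  haveI : CompactSpace Y := QuasiCompact.compactSpace_of_compactSpace p
  haveI : QuasiSeparatedSpace Y := quasiSeparatedSpace_of_quasiSeparated p
  haveI : Coh.IsQCoh δ := Groth.L21.Extend.isQCoh_of_isInvertible hδ
  refine Groth.L02.Canon.DescInvertible.exists_of_local p hp δ fun t => ?_
  obtain ⟨K, _, φ, hφ, ⟨z, hz⟩, ⟨e⟩⟩ := hloc t
  let g' := pullback.fst p φ
  let δ' := (Scheme.Modules.pullback g').obj δ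
  -- a global section which is a frame on the fibre
  let one : Γ(Coh.structureModule (pullback p φ), ⊤) := (show Γ(pullback p φ, ⊤) from 1)
  have hframe : IsFrame (Coh.structureModule (pullback p φ)) ⊤ one := fun V hV => by
    have h2 : (fun r : Γ(pullback p φ, V) => r • rs (Coh.structureModule (pullback p φ)) hV one) = id := funext fun r => by
      show r * ro hV (1 : Γ(pullback p φ, ⊤)) = r
      rw [show ro hV (1 : Γ(pullback p φ, ⊤)) = (1 : Γ(pullback p φ, V)) from map_one _, mul_one]
    rw [h2]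
    exact Function.bijective_id
  have hγ : IsFrame δ' ⊤ (e.inv.app ⊤ one) := isFrame_app e.inv hframe
  have hK := bijective_app_of_flat (IsPullback.of_hasPullback p φ) hp ⊤
  obtain ⟨s, hs⟩ : ∃ s : Γ(δ, ⊤), IsFrame δ' ⊤ (show Γ(δ', ⊤) from pull g' δ ⊤ s) := by
    by_contra! hne
    have hzero : ∀ s : Γ(δ, ⊤), (show Γ(δ', ⊤) from pull g' δ ⊤ s) = 0 := fun s => by
      obtain ⟨c, hc⟩ := hγ.exists_coeff le_rfl (show Γ(δ', ⊤) from pull g' δ ⊤ s)
      rw [rs_self] at hc
      obtain ⟨c₀, rfl⟩ := hK.2 c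
      by_cases h0 : c₀ = 0
      · rw [← hc, h0, map_zero, zero_smul]
      · refine absurd ?_ (hne s)
        rw [← hc]
        refine hγ.smul_unit (IsUnit.map (pullback.snd p φ).appTop.hom ?_)
        have hK0 : (Scheme.ΓSpecIso (CommRingCat.of K)).hom c₀ ≠ 0 := fun h => h0
          ((ConcreteCategory.bijective_of_isIso (Scheme.ΓSpecIso (CommRingCat.of K)).hom).1 (by rw [h, map_zero]))
        simpa using (IsUnit.mk0 _ hK0).map (Scheme.ΓSpecIso (CommRingCat.of K)).inv.hom
    have h1 := Groth.L18.AmpleDesc.mem_span_pull (IsPullback.of_hasPullback p φ) δ (e.inv.app ⊤ one)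
    rw [Submodule.span_eq_bot.2 (by rintro _ ⟨s, rfl⟩; exact hzero s), Submodule.mem_bot] at h1
    have h2 : (1 : Γ(pullback p φ, ⊤)) = 0 := hγ.inj le_rfl (by
      rw [rs_self, one_smul, zero_smul]; exact h1)
    obtain ⟨c₀, hc₀⟩ := hK.2 1
    have h3 : (1 : Γ(Spec (CommRingCat.of K), ⊤)) = 0 := hK.1 (by rw [map_one, map_zero]; exact h2)
    exact one_ne_zero (α := K) (by simpa using congrArg (Scheme.ΓSpecIso (CommRingCat.of K)).hom h3)
  -- the locus where it is a frame
  choose W w hyW hw using exists_frame hδ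
  choose a ha using fun y => (hw y).exists_coeff le_rfl (rs δ le_top s : Γ(δ, W y))
  simp only [rs_self] at ha
  let G : Y.Opens := ⨆ y, Y.basicOpen (a y)
  have hG : IsFrame δ G (rs δ le_top s) := by
    refine IsFrame.of_cover (fun y => Y.basicOpen (a y)) (fun y => le_iSup (fun y => Y.basicOpen (a y)) y) le_rfl fun y => ?_
    rw [rs_rs, ← rs_rs δ (le_top : W y ≤ ⊤) (Y.basicOpen_le (a y)) s, ← ha, rs_smul]
    exact ((hw y).mono _).smul_unit (Y.toRingedSpace.isUnit_res_basicOpen (a y))
  have hfib : ∀ y : Y, p y = t → y ∈ G := fun y hy => by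
    obtain ⟨y', hy', -⟩ := Scheme.Pullback.exists_preimage_pullback y z (hy.trans hz.symm)
    have h1 : IsFrame δ' (g' ⁻¹ᵁ W y) (g'.app (W y) (a y) • pull g' δ (W y) (w y)) := by
      rw [← pull_smul, ha y, ← pull_rs g' δ]
      exact hs.mono le_top
    have h2 := isUnit_of_isFrame ((hw y).pullback g') h1
    have h3 : y' ∈ (pullback p φ).basicOpen (g'.app (W y) (a y)) := by
      rw [Scheme.basicOpen_of_isUnit _ h2]
      show g' y' ∈ W y
      rw [hy']; exact hyW y
    rw [← Scheme.preimage_basicOpen] at h3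
    exact Opens.mem_iSup.2 ⟨y, hy' ▸ h3⟩
  have hZ : IsClosed (p '' (G : Set Y)ᶜ) := ((G.2.isClosed_compl.isCompact).image p.continuous).isClosed
  let U : T.Opens := ⟨(p '' (G : Set Y)ᶜ)ᶜ, hZ.isOpen_compl⟩
  have hUG : p ⁻¹ᵁ U ≤ G := fun y hy => by
    by_contra h
    exact hy ⟨y, h, rfl⟩
  refine ⟨U, fun ⟨y, hy, he⟩ => hy (hfib y he), ?_⟩
  obtain ⟨ι⟩ := Groth.L18.RelTilde.nonempty_iso_of_frame (hG.mono hUG)
  exact ⟨((Scheme.Modules.restrictFunctorIsoPullback (p ⁻¹ᵁ U).ι).app δ).symm ≪≫ ι⟩

end Groth.L02.RigidDesc
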