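import Mathlib.RingTheory.Unramified.Field
import Mathlib.RingTheory.Flat.Basic
import Mathlib.RingTheory.Etale.Field
import Mathlib.RingTheory.KrullDimension.Zero
import Mathlib.RingTheory.IntegralClosure.IntegralRestrict
import Mathlib.RingTheory.IntegralClosure.Algebra.Basic
import Mathlib.FieldTheory.Galois.Basic

/-!
The tensor square of a Galois extension: reduced, of dimension zero, with points the graphs of automorphisms.
-/

set_option autoImplicit false
set_option linter.style.haveILetI false

universe u

open TensorProduct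

namespace Groth.L02.RigidDesc

variable (k k' : Type u) [Field k] [Field k'] [Algebra k k'] [IsGalois k k']

theorem isReduced_tensor : IsReduced (k' ⊗[k] k') := by
  refine IsReduced.tensorProduct_of_flat_of_forall_fg fun D hD => ?_
  haveI : Algebra.IsIntegral k D := ⟨fun x =>
    (isIntegral_algHom_iff D.val Subtype.val_injective).1 (Algebra.IsIntegral.isIntegral (x : k'))⟩
  haveI : Algebra.FiniteType k D := ⟨(Subalgebra.fg_top D).2 hD⟩
  haveI : Module.Finite k D := Algebra.IsIntegral.finite
  letI : Field D := (isField_of_isIntegral_of_isField' (Field.toIsField k) (S := D)).toField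
  haveI : Algebra.IsSeparable k D := Algebra.IsSeparable.of_algHom k k' D.val
  haveI : Algebra.FormallyUnramified k D := Algebra.FormallyUnramified.of_isSeparable k D
  exact Algebra.FormallyUnramified.isReduced_of_field k' _

theorem krullDimLE_tensor : Ring.KrullDimLE 0 (k' ⊗[k] k') := Ring.KrullDimLE.mk₀ fun P hP => by
  haveI : Algebra.IsIntegral k' (k' ⊗[k] k') := Algebra.IsIntegral.tensorProduct k k' k'
  haveI : (P.comap (algebraMap k' (k' ⊗[k] k'))).IsMaximal := by
    haveI := hP.comap (algebraMap k' (k' ⊗[k] k'))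
    rw [(Ideal.eq_bot_or_top (P.comap (algebraMap k' (k' ⊗[k] k')))).resolve_right this.ne_top]
    exact Ideal.bot_isMaximal
  exact Ideal.isMaximal_of_isIntegral_of_isMaximal_comap P this

/-- Every point of the tensor square is the graph of an automorphism. -/
theorem exists_aut (P : Ideal (k' ⊗[k] k')) [P.IsMaximal] :
    ∃ (σ : k' ≃ₐ[k] k'), ∀ b : k', Ideal.Quotient.mk P (1 ⊗ₜ b) = Ideal.Quotient.mk P (σ b ⊗ₜ 1) := by
  letI := Ideal.Quotient.field P
  let ι₁ : k' →ₐ[k] (k' ⊗[k] k') ⧸ P := (Ideal.Quotient.mkₐ k P).comp Algebra.TensorProduct.includeLeft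
  let ι₂ : k' →ₐ[k] (k' ⊗[k] k') ⧸ P := (Ideal.Quotient.mkₐ k P).comp Algebra.TensorProduct.includeRight
  have hex : ∀ b, ∃ c, ι₁ c = ι₂ b := fun b => by
    have hs : ((minpoly k b).map (algebraMap k k')).Splits := Normal.splits inferInstance b
    have h0 : minpoly k b ≠ 0 := minpoly.ne_zero (Algebra.IsIntegral.isIntegral b)
    have hmem : ι₂ b ∈ (minpoly k b).rootSet ((k' ⊗[k] k') ⧸ P) := by
      rw [Polynomial.mem_rootSet_of_ne h0, Polynomial.aeval_algHom_apply, minpoly.aeval, map_zero]
    rw [← hs.image_rootSet ι₁] at hmem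
    obtain ⟨c, -, hc⟩ := hmem
    exact ⟨c, hc⟩
  choose τ hτ using hex
  have hinj : Function.Injective ι₁ := ι₁.toRingHom.injective
  let τ' : k' →ₐ[k] k' :=
    { toFun := τ
      map_one' := hinj (by rw [hτ, map_one, map_one])
      map_mul' := fun a b => hinj (by rw [hτ, map_mul, map_mul, hτ, hτ])
      map_zero' := hinj (by rw [hτ, map_zero, map_zero])
      map_add' := fun a b => hinj (by rw [hτ, map_add, map_add, hτ, hτ])
      commutes' := fun r => hinj (by rw [hτ, AlgHom.commutes, AlgHom.commutes]) }
  exact ⟨AlgEquiv.ofBijective τ' (Algebra.IsAlgebraic.algHom_bijective τ'), fun b => (hτ b).symm⟩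

end Groth.L02.RigidDesc
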